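import Mathlib.Analysis.SpecificLimits.Normed
import Mathlib.Analysis.Complex.Basic
import Mathlib.RingTheory.PowerSeries.Exp
import Mathlib.Data.Nat.Choose.Cast
import Mathlib.Algebra.Polynomial.Eval.Degree
import Mathlib.Algebra.BigOperators.Field

/-!
Abel summation of `∑ k ^ j y ^ k` at `y = -1` and the Euler numbers.
-/

set_option autoImplicit false

namespace Groth.Agent.Lib.GRRSing.AbelEuler

open Filter Topology Finset

universe u

/-- `∑ k ^ j y ^ k`. -/
noncomputable def S (j : ℕ) (y : ℂ) : ℂ := ∑' k : ℕ, (k : ℂ) ^ j * y ^ k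

theorem summable_S (j : ℕ) {y : ℂ} (hy : ‖y‖ < 1) :
    Summable fun k : ℕ => (k : ℂ) ^ j * y ^ k :=
  summable_pow_mul_geometric_of_norm_lt_one j hy

theorem S_succ (j : ℕ) {y : ℂ} (hy : ‖y‖ < 1) :
    S (j + 1) y * (1 - y) = y * ∑ i ∈ range (j + 1), ((j + 1).choose i : ℂ) * S i y := by
  have h := (summable_S (j + 1) hy).tsum_eq_zero_add
  rw [Nat.cast_zero, zero_pow (Nat.succ_ne_zero j), zero_mul, zero_add] at h
  have hexp : ∀ k : ℕ, ((k + 1 : ℕ) : ℂ) ^ (j + 1) * y ^ (k + 1) =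
      ∑ i ∈ range (j + 2), y * ((j + 1).choose i : ℂ) * ((k : ℂ) ^ i * y ^ k) := by
    intro k
    rw [Nat.cast_succ, add_pow, sum_mul]
    exact sum_congr rfl (fun i _ => by rw [one_pow, pow_succ]; ring)
  simp only [hexp] at h
  rw [Summable.tsum_finsetSum (fun i _ => (summable_S i hy).mul_left _), sum_range_succ,
    Nat.choose_self] at h
  simp only [tsum_mul_left, Nat.cast_one, mul_one] at h
  rw [mul_sum, mul_sub, mul_one]
  nth_rewrite 1 [S]
  rw [h]
  simp only [S]
  rw [mul_comm (∑' k : ℕ, (k : ℂ) ^ (j + 1) * y ^ k) y, add_sub_cancel_right]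
  exact sum_congr rfl (fun i _ => by ring)

theorem euler_rec (E : ℕ → ℚ)
    (hE : PowerSeries.mk (fun j => E j / (j.factorial : ℚ)) * (PowerSeries.exp ℚ + 1) = 2) (j : ℕ) :
    E 0 = 1 ∧ E (j + 1) * 2 = -∑ i ∈ range (j + 1), ((j + 1).choose i : ℚ) * E i := by
  constructor
  · have := congrArg PowerSeries.constantCoeff hE
    simp only [map_mul, map_add, map_one, PowerSeries.constantCoeff_exp, map_ofNat,
      ← PowerSeries.coeff_zero_eq_constantCoeff_apply, PowerSeries.coeff_mk, Nat.factorial_zero,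
      Nat.cast_one, div_one] at this
    rw [PowerSeries.coeff_zero_eq_constantCoeff, PowerSeries.constantCoeff_exp] at this
    linarith
  · have h := congrArg (PowerSeries.coeff (j + 1)) hE
    have h2 : PowerSeries.coeff (j + 1) (2 : PowerSeries ℚ) = 0 := by
      rw [show (2 : PowerSeries ℚ) = PowerSeries.C 2 from (map_ofNat _ 2).symm,
        PowerSeries.coeff_C, if_neg (Nat.succ_ne_zero j)]
    rw [h2, mul_add, map_add, mul_one, PowerSeries.coeff_mul,
      Nat.sum_antidiagonal_eq_sum_range_succ_mk, sum_range_succ] at h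
    simp only [PowerSeries.coeff_mk, PowerSeries.coeff_exp, Nat.sub_self, Nat.factorial_zero,
      Nat.cast_one, div_one, map_one, mul_one, eq_ratCast, Rat.cast_id] at h
    have key : ∀ i ∈ range (j + 1), ((j + 1).choose i : ℚ) * E i =
        ((j + 1).factorial : ℚ) * (E i / (i.factorial : ℚ) * (1 / ((j + 1 - i).factorial : ℚ))) := by
      intro i hi
      rw [Nat.cast_choose ℚ (mem_range.mp hi).le]
      field_simp
    rw [sum_congr rfl key, ← mul_sum]
    have hf : ((j + 1).factorial : ℚ) ≠ 0 := by exact_mod_cast Nat.factorial_ne_zero _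
    field_simp at h ⊢
    linarith

theorem norm_lt {y : ℝ} (hy : y ∈ Set.Ioo (-1 : ℝ) 1) : ‖(y : ℂ)‖ < 1 := by
  rw [Complex.norm_real, Real.norm_eq_abs, abs_lt]
  exact hy

theorem tendsto_S (E : ℕ → ℚ)
    (hE : PowerSeries.mk (fun j => E j / (j.factorial : ℚ)) * (PowerSeries.exp ℚ + 1) = 2) (j : ℕ) :
    Tendsto (fun y : ℝ => S j (y : ℂ)) (𝓝[Set.Ioo (-1 : ℝ) 1] (-1 : ℝ)) (𝓝 ((E j : ℂ) / 2)) := by
  have hev : ∀ᶠ y : ℝ in 𝓝[Set.Ioo (-1 : ℝ) 1] (-1 : ℝ), ‖(y : ℂ)‖ < 1 := by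
    filter_upwards [self_mem_nhdsWithin] with y hy using norm_lt hy
  have hy : Tendsto (fun y : ℝ => (y : ℂ)) (𝓝[Set.Ioo (-1 : ℝ) 1] (-1 : ℝ)) (𝓝 (-1)) := by
    refine tendsto_nhdsWithin_of_tendsto_nhds ?_
    simpa using Complex.continuous_ofReal.tendsto (-1)
  induction j using Nat.strong_induction_on with
  | _ j ih =>
    rcases j with _ | j
    · have h := ((tendsto_const_nhds (x := (1 : ℂ))).sub hy).inv₀ (by norm_num)
      rw [(euler_rec E hE 0).1, show ((1 : ℚ) : ℂ) / 2 = (1 - -1)⁻¹ by norm_num]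
      refine Tendsto.congr' ?_ h
      filter_upwards [hev] with y hy
      simp only [S, pow_zero, one_mul]
      exact (tsum_geometric_of_norm_lt_one hy).symm
    · have h := (hy.mul (tendsto_finsetSum (range (j + 1)) (fun i hi =>
        (ih i (mem_range.mp hi)).const_mul (((j + 1).choose i : ℂ))))).mul
        (((tendsto_const_nhds (x := (1 : ℂ))).sub hy).inv₀ (by norm_num))
      have e : (-1 : ℂ) * (∑ i ∈ range (j + 1), ((j + 1).choose i : ℂ) * ((E i : ℂ) / 2)) *
          (1 - -1)⁻¹ = (E (j + 1) : ℂ) / 2 := by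
        have h2 := congrArg (fun q : ℚ => (q : ℂ)) (euler_rec E hE j).2
        simp only [Rat.cast_mul, Rat.cast_neg, Rat.cast_sum, Rat.cast_natCast, Rat.cast_ofNat] at h2
        have h3 : ∑ i ∈ range (j + 1), ((j + 1).choose i : ℂ) * ((E i : ℂ) / 2) =
            (∑ i ∈ range (j + 1), ((j + 1).choose i : ℂ) * (E i : ℂ)) / 2 := by
          rw [Finset.sum_div]; exact sum_congr rfl (fun i _ => by ring)
        rw [h3, show (1 : ℂ) - -1 = 2 by norm_num]
        linear_combination (-1 / 4 : ℂ) * h2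
      rw [e] at h
      refine Tendsto.congr' ?_ h
      filter_upwards [hev] with y hy
      have hne : (1 : ℂ) - (y : ℂ) ≠ 0 := by
        intro hh
        rw [sub_eq_zero] at hh
        rw [← hh] at hy
        simp at hy
      rw [← S_succ j hy, mul_inv_cancel_right₀ hne]

theorem tendsto_abel {T : Type u} [NormedCommRing T] [NormedAlgebra ℂ T] (E : ℕ → ℚ)
    (hE : PowerSeries.mk (fun j => E j / (j.factorial : ℚ)) * (PowerSeries.exp ℚ + 1) = 2)
    (P : Polynomial T) :
    (∀ y : ℂ, ‖y‖ < 1 → Summable (fun k : ℕ => y ^ k • P.eval (k : T))) ∧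
    Tendsto (fun y : ℝ => ∑' k : ℕ, ((y : ℂ) ^ k) • P.eval (k : T)) (𝓝[Set.Ioo (-1 : ℝ) 1] (-1 : ℝ))
      (𝓝 ((2 : ℂ)⁻¹ • ∑ j ∈ Finset.range (P.natDegree + 1), ((E j : ℚ) : ℂ) • P.coeff j)) := by
  have hterm : ∀ (y : ℂ) (k : ℕ), y ^ k • P.eval (k : T) =
      ∑ j ∈ range (P.natDegree + 1), ((k : ℂ) ^ j * y ^ k) • P.coeff j := by
    intro y k
    rw [Polynomial.eval_eq_sum_range, smul_sum]
    refine sum_congr rfl (fun j _ => ?_)
    rw [Algebra.smul_def, Algebra.smul_def, map_mul, map_pow, map_pow, map_natCast]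
    ring
  have hsum : ∀ y : ℂ, ‖y‖ < 1 → HasSum (fun k : ℕ => y ^ k • P.eval (k : T))
      (∑ j ∈ range (P.natDegree + 1), S j y • P.coeff j) := by
    intro y hy
    simp only [hterm]
    exact hasSum_sum (fun j _ => ((summable_S j hy).hasSum).smul_const _)
  refine ⟨fun y hy => (hsum y hy).summable, ?_⟩
  rw [smul_sum]
  refine Tendsto.congr' (f₁ := fun y : ℝ => ∑ j ∈ range (P.natDegree + 1), S j (y : ℂ) • P.coeff j)
    ?_ (tendsto_finsetSum _ (fun j _ => ?_))
  · filter_upwards [self_mem_nhdsWithin] with y hy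
    exact (hsum _ (norm_lt hy)).tsum_eq.symm
  · rw [smul_smul, ← div_eq_inv_mul]
    exact (tendsto_S E hE j).smul_const _

end Groth.Agent.Lib.GRRSing.AbelEuler
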